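/-
Double covers of the unitary groups over the field with four elements with three mutually orthogonal
isotropic points: lifts of transvections are commuting involutions, so every involution lifts to an involution.
-/
import Cfsg.Agent.Lib.Classical.UnitaryStd
import Cfsg.Agent.Lib.Transvec.HermStab

set_option autoImplicit false

namespace Cfsg.Agent.UnitarySix

open scoped Matrix commutatorElement
open Matrix Cfsg.Agent.Transvec Cfsg.Agent.Transvec.Herm Cfsg.Agent.UnitarySimple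

variable {ι : Type} [Fintype ι] [DecidableEq ι] {F : Type*} [Field F] [Fintype F]
variable {σ : F ≃+* F} {f : (ι → F) → (ι → F) → F}

/-- The hypotheses on the field: four elements, σ is squaring. -/
structure FourField (σ : F ≃+* F) : Prop where
  two : (2 : F) = 0
  cube : ∀ a : F, a ≠ 0 → a ^ 3 = 1
  sq : ∀ a : F, σ a = a ^ 2
  omega : ∃ w : F, w ^ 2 + w + 1 = 0

omit [Fintype F] in
theorem FourField.neg (K : FourField σ) (a : F) : -a = a := by linear_combination (-a) * K.two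

omit [Fintype F] in
theorem FourField.sigma_one (K : FourField σ) : σ (1 : F) = -1 := by rw [map_one, K.neg]

omit [Fintype F] in
theorem FourField.norm (K : FourField σ) {a : F} (ha : a ≠ 0) : a * σ a = 1 := by
  rw [K.sq, ← K.cube a ha]; ring

variable (hf : Geo.IsUnitaryForm σ f) (K : FourField σ)

open scoped Classical in
/-- The transvection at an isotropic vector, as an element of the special unitary group. -/
noncomputable def T (v : ι → F) : sug f :=
  if h : f v v = 0 then ⟨htv hf v h 1, htv_mem hf v h K.sigma_one, htv_mem_specialLinear hf v h 1⟩ else 1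

omit [Fintype F] in
theorem T_val {v : ι → F} (h : f v v = 0) : (T hf K v).1 = htv hf v h 1 := by
  rw [T, dif_pos h]

omit [Fintype F] in
theorem mv_T {v : ι → F} (h : f v v = 0) (x : ι → F) : mv (T hf K v).1 x = x + f x v • v := by
  rw [T_val hf K h, mv_htv, one_mul]

omit [Fintype F] in
theorem T_conj (g : sug f) {v : ι → F} (h : f v v = 0) :
    g * T hf K v * g⁻¹ = T hf K (mv g.1 v) := by
  have hg : ∀ x y, f (mv g.1 x) (mv g.1 y) = f x y := fun x y => g.2.1 x y
  refine Subtype.ext ?_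
  rw [Subgroup.coe_mul, Subgroup.coe_mul, Subgroup.coe_inv, T_val hf K h,
    T_val hf K (show f (mv g.1 v) (mv g.1 v) = 0 by rw [hg, h]), htv_conj hf hg]

omit [Fintype F] in
theorem T_sq {v : ι → F} (h : f v v = 0) : T hf K v * T hf K v = 1 := by
  refine Subtype.ext ?_
  rw [Subgroup.coe_mul, T_val hf K h, htv_add, show (1 : F) + 1 = 0 by linear_combination K.two, htv_zero]
  rfl

omit [Fintype F] in
theorem T_comm {v w : ι → F} (hv : f v v = 0) (hw : f w w = 0) (hvw : f v w = 0) :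
    T hf K v * T hf K w = T hf K w * T hf K v := by
  refine Subtype.ext (ext_mv fun x => ?_)
  simp only [Subgroup.coe_mul, mv_mul, mv_T hf K hv, mv_T hf K hw, hf.add_left, hf.smul_left, hvw,
    (f_eq_zero_comm hf).1 hvw, mul_zero, add_zero]
  module

omit [Fintype F] in
theorem T_smul {v : ι → F} (h : f v v = 0) {k : F} (hk : k ≠ 0) : T hf K (k • v) = T hf K v := by
  have hk' : f (k • v) (k • v) = 0 := by rw [hf.smul_left, smul_right hf, h, mul_zero, mul_zero]
  refine Subtype.ext ?_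
  rw [T_val hf K hk', T_val hf K h, htv_smul hf v h, K.norm hk, one_mul]

include hf K in
/-- A central element of the special unitary group has cube one. -/
theorem center_cube {z : sug f} (hz : z ∈ Subgroup.center (sug f)) (hn : 2 ≤ Fintype.card ι) : z ^ 3 = 1 := by
  obtain ⟨a, ha⟩ := eq_scalar_of_fix hf hn z fun p => by
    have hp := pt_iso hf p
    obtain ⟨y, hy⟩ := (hf.nondegenerate p.1.rep p.1.rep_nonzero).1
    set x := (f y p.1.rep)⁻¹ • y with hx
    have hxp : f x p.1.rep = 1 := by rw [hx, hf.smul_left, inv_mul_cancel₀ hy]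
    have e := congrArg (fun k : sug f => mv k.1 x) (Subgroup.mem_center_iff.1 hz (T hf K p.1.rep))
    simp only [Subgroup.coe_mul, mv_mul, mv_T hf K hp, hxp, one_smul, mv_add, add_right_inj] at e
    refine Subtype.ext ?_
    rw [SubMulAction.val_smul]
    conv_rhs => rw [← p.1.mk_rep]
    conv_lhs => rw [← p.1.mk_rep]
    rw [smul_point, Projectivization.mk_eq_mk_iff']
    exact ⟨_, e⟩
  rcases eq_or_ne a 0 with rfl | ha0
  · refine Subtype.ext (ext_mv fun x => ?_)
    have : x = 0 := mv_inj z.1 (by rw [ha x, zero_smul, mv_zero])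
    subst this
    rw [mv_zero, mv_zero]
  refine Subtype.ext (ext_mv fun x => ?_)
  rw [pow_succ, pow_succ, pow_one, Subgroup.coe_mul, Subgroup.coe_mul, mv_mul, mv_mul, ha x, mv_smul,
    mv_smul, ha x, mv_smul, ha x, smul_smul, smul_smul, show a * a * a = a ^ 3 by ring, K.cube a ha0, one_smul]
  exact (mv_one x).symm

include hf in
/-- Transitivity on pairs of independent orthogonal isotropic vectors. -/
theorem exists_move_pair (hn : 6 ≤ Fintype.card ι) {v w v' w' : ι → F} (hv : f v v = 0) (hw : f w w = 0)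
    (hvw : f v w = 0) (hv0 : v ≠ 0) (hi : ∀ k : F, w ≠ k • v) (hv' : f v' v' = 0) (hw' : f w' w' = 0)
    (hvw' : f v' w' = 0) (hv0' : v' ≠ 0) (hi' : ∀ k : F, w' ≠ k • v') :
    ∃ g : sug f, mv g.1 v = v' ∧ mv g.1 w = w' := by
  obtain ⟨g, hg, hgv⟩ := trans_vec hf (by omega) hv hv' hv0 hv0'
  have hgf : ∀ x y, f (mv g x) (mv g y) = f x y := fun x y => hg.1 x y
  set u := mv g w with hu
  have huu : f u u = 0 := by rw [hu, hgf, hw]
  have hvu : f v' u = 0 := by rw [hu, ← hgv, hgf, hvw]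
  have hiu : ∀ k : F, u ≠ k • v' := fun k hk => hi k (mv_inj g (by rw [← hu, hk, mv_smul, hgv]))
  obtain ⟨d, -, hvd, hdd⟩ := exists_partner hf (nondeg_top hf) Submodule.mem_top hv0' hv'
  obtain ⟨hP, hP2⟩ := nondeg_pair hf hv' hdd hvd
  set X := orth hf (Submodule.span F ({v', d} : Set (ι → F))) with hX
  have hX4 : 4 ≤ Module.finrank F X := by
    have h1 := finrank_orth_add hf hP
    rw [hP2, ← hX, Module.finrank_pi] at h1
    omega
  have hmem : ∀ {z : ι → F}, f v' z = 0 → z - f z d • v' ∈ X := by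
    intro z hz y hy
    obtain ⟨a, b, rfl⟩ := Submodule.mem_span_pair.1 hy
    have hdv : f d v' = 1 := by rw [hf.herm, hvd, map_one]
    rw [sub_right hf, smul_right hf, hf.add_left, hf.add_left, hf.smul_left, hf.smul_left, hf.smul_left,
      hf.smul_left, hv', hz, hdv, hf.herm z d]
    rw [hf.involutive]
    ring
  have hiso : ∀ {z : ι → F}, f z z = 0 → f v' z = 0 → f (z - f z d • v') (z - f z d • v') = 0 := by
    intro z h1 h2
    simp [sub_left hf, sub_right hf, hf.smul_left, smul_right hf, hv', h1, h2, (f_eq_zero_comm hf).1 h2]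
  have hne : ∀ {z : ι → F}, (∀ k : F, z ≠ k • v') → z - f z d • v' ≠ 0 :=
    fun h h0 => h _ (sub_eq_zero.1 h0)
  have hK : ∀ x ∈ X, ∀ (hx : f x x = 0) (c : F), σ c = -c → htv hf x hx c ∈ sug f :=
    fun x _ hx c hc => ⟨htv_mem hf x hx hc, htv_mem_specialLinear hf x hx c⟩
  obtain ⟨h, hh, hhz, hhfix⟩ := exists_move hf (nondeg_orth hf hP) hX4 (K := sug f) hK (hmem hvu)
    (hmem hvw') (hne hiu) (hne hi') (hiso huu hvu) (hiso hw' hvw')
  have hhv : mv h v' = v' := hhfix v' fun x hx => hx v' (Submodule.subset_span (Set.mem_insert _ _))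
  set z0 := w' - f w' d • v' with hz0
  obtain ⟨e, heX, hze, hee⟩ := exists_partner hf (nondeg_orth hf hP) (hmem hvw') (hne hi') (hiso hw' hvw')
  have hve : f v' e = 0 := heX v' (Submodule.subset_span (Set.mem_insert _ _))
  set k := f u d - f w' d with hk
  have hzv : f z0 v' = 0 := by
    rw [hz0, sub_left hf, hf.smul_left, hv', (f_eq_zero_comm hf).1 hvw', mul_zero, sub_zero]
  obtain ⟨m, hm, hmz⟩ := exists_eichler hf (u := v') (y := σ k • e) (l := 0) hv'
    (by rw [hf.smul_left, (f_eq_zero_comm hf).1 hve, mul_zero])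
    (by rw [hf.smul_left, smul_right hf, hee]; simp)
  refine ⟨⟨m * (h * g), mul_mem hm (mul_mem hh hg)⟩, ?_, ?_⟩
  · show mv (m * (h * g)) v = v'
    rw [mv_mul, mv_mul, hgv, hhv, hmz, hv', smul_right hf, hve]
    simp
  · show mv (m * (h * g)) w = w'
    have h1 : mv h u = z0 + f u d • v' := by
      conv_lhs => rw [← sub_add_cancel u (f u d • v')]
      rw [mv_add, mv_smul, hhv, hhz]
    rw [mv_mul, mv_mul, ← hu, h1, hmz, hf.add_left, hf.add_left, hf.smul_left, hf.smul_left, hzv, hv',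
      smul_right hf, smul_right hf, hze, hve, hf.involutive, hk, hz0]
    simp only [mul_zero, add_zero, zero_smul, zero_sub, mul_one, zero_mul]
    module

section cover

variable {C Q : Type*} [Group C] [Group Q] {π : C →* Q} (hπ : Function.Surjective π)
  (hker : ∀ k, π k = 1 → (∀ c, k * c = c * k) ∧ k * k = 1)
  (φ : sug f →* Q)

/-- A chosen lift of the transvection. -/
noncomputable def L (v : ι → F) : C := Function.surjInv hπ (φ (T hf K v))

omit [Fintype F] in
theorem pi_L (v : ι → F) : π (L hf K hπ φ v) = φ (T hf K v) := Function.surjInv_eq hπ _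

include hker in
omit [Fintype ι] [DecidableEq ι] [Fintype F] [Field F] in
theorem comm_congr {a a' b b' : C} (ha : π a = π a') (hb : π b = π b') : ⁅a, b⁆ = ⁅a', b'⁆ := by
  obtain ⟨k, hk, rfl⟩ : ∃ k, (∀ c, k * c = c * k) ∧ a = k * a' :=
    ⟨a * a'⁻¹, (hker _ (by rw [map_mul, map_inv, ha, mul_inv_cancel])).1, by rw [inv_mul_cancel_right]⟩
  obtain ⟨l, hl, rfl⟩ : ∃ l, (∀ c, l * c = c * l) ∧ b = l * b' :=
    ⟨b * b'⁻¹, (hker _ (by rw [map_mul, map_inv, hb, mul_inv_cancel])).1, by rw [inv_mul_cancel_right]⟩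
  rw [commutatorElement_def, commutatorElement_def, _root_.mul_inv_rev, _root_.mul_inv_rev]
  calc k * a' * (l * b') * (a'⁻¹ * k⁻¹) * (b'⁻¹ * l⁻¹)
      = k * (l * (a' * b')) * (a'⁻¹ * k⁻¹) * (b'⁻¹ * l⁻¹) := by
        rw [← mul_assoc l, hl a']; simp only [mul_assoc]
    _ = l * (a' * b' * a'⁻¹ * b'⁻¹) * l⁻¹ := by
        have hk' : ∀ c, c * k⁻¹ = k⁻¹ * c := fun c => by
          rw [eq_inv_mul_iff_mul_eq, ← mul_assoc, hk c, mul_inv_cancel_right]
        rw [hk (l * (a' * b'))]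
        simp only [mul_assoc]
        rw [← mul_assoc a'⁻¹ k⁻¹, hk' a'⁻¹]
        simp only [mul_assoc, mul_inv_cancel_left]
    _ = a' * b' * a'⁻¹ * b'⁻¹ := by rw [hl, mul_inv_cancel_right]

include hker in
omit [Fintype ι] [DecidableEq ι] [Fintype F] [Field F] in
theorem sq_congr {a a' : C} (ha : π a = π a') : a * a = a' * a' := by
  obtain ⟨hk, hk2⟩ := hker (a * a'⁻¹) (by rw [map_mul, map_inv, ha, mul_inv_cancel])
  set k := a * a'⁻¹ with hkdef
  have : a = k * a' := by rw [hkdef, inv_mul_cancel_right]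
  rw [this, mul_assoc, ← mul_assoc a' k, ← hk a', ← mul_assoc, ← mul_assoc, hk2, one_mul]

variable {hπ φ}
variable (hn : 6 ≤ Fintype.card ι)
include hker hn

theorem comm_const {v w v' w' : ι → F} (hv : f v v = 0) (hw : f w w = 0) (hvw : f v w = 0) (hv0 : v ≠ 0)
    (hi : ∀ k : F, w ≠ k • v) (hv' : f v' v' = 0) (hw' : f w' w' = 0)
    (hvw' : f v' w' = 0) (hv0' : v' ≠ 0) (hi' : ∀ k : F, w' ≠ k • v') :
    ⁅L hf K hπ φ v, L hf K hπ φ w⁆ = ⁅L hf K hπ φ v', L hf K hπ φ w'⁆ := by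
  obtain ⟨g, hgv, hgw⟩ := exists_move_pair hf hn hv hw hvw hv0 hi hv' hw' hvw' hv0' hi'
  obtain ⟨c, hc⟩ := hπ (φ g)
  have e : ∀ x, f x x = 0 →
      π (c * L hf K hπ φ x * c⁻¹) = π (L hf K hπ φ (mv g.1 x)) := fun x hx => by
    rw [map_mul, map_mul, map_inv, hc, pi_L, pi_L, ← map_inv, ← map_mul, ← map_mul, T_conj hf K g hx]
  have hcen : π ⁅L hf K hπ φ v, L hf K hπ φ w⁆ = 1 := by
    rw [map_commutatorElement, pi_L, pi_L, ← map_commutatorElement,
      commutatorElement_eq_one_iff_mul_comm.2 (T_comm hf K hv hw hvw), map_one]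
  rw [← hgv, ← hgw, ← comm_congr hker (e v hv) (e w hw), ← conjugate_commutatorElement, ← (hker _ hcen).1 c,
    mul_inv_cancel_right]

theorem sq_const {v v' : ι → F} (hv : f v v = 0) (hv0 : v ≠ 0) (hv' : f v' v' = 0) (hv0' : v' ≠ 0) :
    L hf K hπ φ v * L hf K hπ φ v = L hf K hπ φ v' * L hf K hπ φ v' := by
  obtain ⟨g, hg, hgv⟩ := trans_vec hf (by omega) hv hv' hv0 hv0'
  obtain ⟨c, hc⟩ := hπ (φ ⟨g, hg⟩)
  have e : π (c * L hf K hπ φ v * c⁻¹) = π (L hf K hπ φ v') := by
    rw [map_mul, map_mul, map_inv, hc, pi_L, pi_L, ← map_inv, ← map_mul, ← map_mul,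
      T_conj hf K ⟨g, hg⟩ hv, hgv]
  have hcen : π (L hf K hπ φ v * L hf K hπ φ v) = 1 := by
    rw [map_mul, pi_L, ← map_mul, T_sq hf K hv, map_one]
  rw [← sq_congr hker e, show c * L hf K hπ φ v * c⁻¹ * (c * L hf K hπ φ v * c⁻¹) =
    c * (L hf K hπ φ v * L hf K hπ φ v) * c⁻¹ by group, ← (hker _ hcen).1 c, mul_inv_cancel_right]

/-- Three mutually orthogonal isotropic points in general position. -/
structure Triple (f : (ι → F) → (ι → F) → F) (v w q : ι → F) : Prop where
  vv : f v v = 0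
  ww : f w w = 0
  qq : f q q = 0
  vw : f v w = 0
  qv : f q v = 0
  qw : f q w = 0
  q0 : q ≠ 0
  indep : ∀ a b c : F, a • v + b • w + c • q = 0 → a = 0 ∧ b = 0 ∧ c = 0

variable {v₀ w₀ q₀ : ι → F} (h₃ : Triple f v₀ w₀ q₀)
include h₃

theorem lifts_spec {v : ι → F} (hv : f v v = 0) (hv0 : v ≠ 0) :
    L hf K hπ φ v * L hf K hπ φ v = 1 ∧
      ∀ w, f w w = 0 → w ≠ 0 → f v w = 0 → L hf K hπ φ v * L hf K hπ φ w = L hf K hπ φ w * L hf K hπ φ v := by
  obtain ⟨ω, hω⟩ := K.omega
  have hωσ : σ ω = ω + 1 := by rw [K.sq]; linear_combination hω - (ω + 1) * K.two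
  have hlin : ∀ a b : F, (a ≠ 0 ∨ b ≠ 0) → f (a • v₀ + b • w₀) (a • v₀ + b • w₀) = 0 ∧
      a • v₀ + b • w₀ ≠ 0 ∧ f q₀ (a • v₀ + b • w₀) = 0 ∧ ∀ k : F, a • v₀ + b • w₀ ≠ k • q₀ := by
    intro a b hab
    have hz : ∀ k : F, a • v₀ + b • w₀ ≠ k • q₀ := fun k hk => by
      have := h₃.indep a b (-k) (by rw [hk, neg_smul, add_neg_cancel])
      tauto
    refine ⟨?_, fun h => hz 0 (by rw [h, zero_smul]), ?_, hz⟩
    · simp [hf.add_left, add_right hf, hf.smul_left, smul_right hf, h₃.vv, h₃.ww, h₃.vw,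
        (f_eq_zero_comm hf).1 h₃.vw]
    · simp [add_right hf, smul_right hf, h₃.qv, h₃.qw]
  have horth : ∀ a b a' b' : F, f (a • v₀ + b • w₀) (a' • v₀ + b' • w₀) = 0 := by
    intro a b a' b'
    simp [hf.add_left, add_right hf, hf.smul_left, smul_right hf, h₃.vv, h₃.ww, h₃.vw,
      (f_eq_zero_comm hf).1 h₃.vw]
  obtain ⟨i1, n1, o1, d1⟩ := hlin 1 0 (Or.inl one_ne_zero)
  obtain ⟨i2, n2, o2, d2⟩ := hlin 0 1 (Or.inr one_ne_zero)
  obtain ⟨i3, n3, o3, d3⟩ := hlin 1 1 (Or.inl one_ne_zero)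
  obtain ⟨i4, n4, o4, d4⟩ := hlin 1 ω (Or.inl one_ne_zero)
  obtain ⟨i5, n5, o5, d5⟩ := hlin 1 (ω + 1) (Or.inl one_ne_zero)
  have z21 := horth 0 1 1 0
  have z31 := horth 1 1 1 0
  have z32 := horth 1 1 0 1
  have z41 := horth 1 ω 1 0
  have z42 := horth 1 ω 0 1
  have z43 := horth 1 ω 1 1
  have z51 := horth 1 (ω + 1) 1 0
  have z52 := horth 1 (ω + 1) 0 1
  have z53 := horth 1 (ω + 1) 1 1
  have z54 := horth 1 (ω + 1) 1 ω
  set p1 := (1 : F) • v₀ + (0 : F) • w₀
  set p2 := (0 : F) • v₀ + (1 : F) • w₀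
  set p3 := (1 : F) • v₀ + (1 : F) • w₀
  set p4 := (1 : F) • v₀ + ω • w₀
  set p5 := (1 : F) • v₀ + (ω + 1) • w₀
  have hprod : T hf K p1 * (T hf K p2 * (T hf K p3 * (T hf K p4 * T hf K p5))) = 1 := by
    refine Subtype.ext (ext_mv fun x => ?_)
    simp only [Subgroup.coe_mul, mv_mul, mv_T hf K i1, mv_T hf K i2, mv_T hf K i3, mv_T hf K i4,
      mv_T hf K i5, hf.add_left, hf.smul_left, z21, z31, z32, z41, z42, z43, z51, z52, z53, z54,
      mul_zero, add_zero, Subgroup.coe_one, mv_one]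
    simp only [p1, p2, p3, p4, p5, add_right hf, smul_right hf, map_add, map_one, map_zero, hωσ]
    match_scalars
    · ring
    · linear_combination (2 * f x v₀ + (ω + 2) * f x w₀) * K.two
    · linear_combination f x v₀ * (ω + 1) * K.two + f x w₀ * hω * 2 + (1 + ω) * f x w₀ * K.two
  set l1 := L hf K hπ φ p1 with hl1
  set l2 := L hf K hπ φ p2 with hl2
  set l3 := L hf K hπ φ p3 with hl3
  set l4 := L hf K hπ φ p4 with hl4
  set l5 := L hf K hπ φ p5 with hl5
  set lq := L hf K hπ φ q₀ with hlq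
  have hP : π (l1 * (l2 * (l3 * (l4 * l5)))) = 1 := by
    simp only [hl1, hl2, hl3, hl4, hl5, map_mul, pi_L]
    rw [← map_mul, ← map_mul, ← map_mul, ← map_mul, hprod, map_one]
  set b := ⁅lq, l1⁆ with hb
  have hbpi : π b = 1 := by
    rw [hb, map_commutatorElement, hlq, hl1, pi_L, pi_L, ← map_commutatorElement,
      commutatorElement_eq_one_iff_mul_comm.2 (T_comm hf K h₃.qq i1 o1), map_one]
  obtain ⟨hbc, hb2⟩ := hker b hbpi
  have hcm : ∀ p, f p p = 0 → f q₀ p = 0 → (∀ k : F, p ≠ k • q₀) →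
      lq * L hf K hπ φ p = b * (L hf K hπ φ p * lq) := by
    intro p hp hqp hkp
    have : ⁅lq, L hf K hπ φ p⁆ = b :=
      comm_const hf K hker hn h₃.qq hp hqp h₃.q0 hkp h₃.qq i1 o1 h₃.q0 d1
    rw [← this, commutatorElement_def]
    group
  have hb1 : b = 1 := by
    have e := (hker _ hP).1 lq
    have e' : lq * (l1 * (l2 * (l3 * (l4 * l5)))) =
        b * (b * (b * (b * (b * (l1 * (l2 * (l3 * (l4 * l5)))))))) * lq := by
      have step : ∀ {y R : C} (k : C), lq * y = b * (y * lq) → lq * R = k * (R * lq) →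
          (∀ c, k * c = c * k) → lq * (y * R) = b * k * (y * R * lq) := by
        intro y R k hy hR hk
        calc lq * (y * R) = lq * y * R := (mul_assoc _ _ _).symm
          _ = b * (y * (lq * R)) := by rw [hy]; simp only [mul_assoc]
          _ = b * (y * k * (R * lq)) := by rw [hR]; simp only [mul_assoc]
          _ = b * k * (y * R * lq) := by rw [← hk y]; simp only [mul_assoc]
      have cpow : ∀ {k : C}, (∀ c, k * c = c * k) → ∀ c, b * k * c = c * (b * k) := fun {k} hk c => by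
        rw [mul_assoc, hk c, ← mul_assoc, hbc c, mul_assoc]
      have q5 := hcm p5 i5 o5 d5
      have q4 := step b (hcm p4 i4 o4 d4) q5 hbc
      have q3 := step _ (hcm p3 i3 o3 d3) q4 (cpow hbc)
      have q2 := step _ (hcm p2 i2 o2 d2) q3 (cpow (cpow hbc))
      have q1 := step _ (hcm p1 i1 o1 d1) q2 (cpow (cpow (cpow hbc)))
      rw [q1]
      simp only [mul_assoc]
      rfl
    rw [e'] at e
    rw [← mul_assoc b b, hb2, one_mul, ← mul_assoc b b, hb2, one_mul] at e
    have := mul_right_cancel e.symm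
    exact mul_eq_right.1 this
  have hcomm : ∀ v w, f v v = 0 → f w w = 0 → v ≠ 0 → w ≠ 0 → f v w = 0 →
      L hf K hπ φ v * L hf K hπ φ w = L hf K hπ φ w * L hf K hπ φ v := by
    intro v w hv hw hv0 hw0 hvw
    by_cases hk : ∃ k : F, w = k • v
    · obtain ⟨k, rfl⟩ := hk
      have hk0 : k ≠ 0 := fun h => hw0 (by rw [h, zero_smul])
      rw [L, L, T_smul hf K hv hk0]
    · push Not at hk
      refine commutatorElement_eq_one_iff_mul_comm.1 ?_
      rw [comm_const hf K hker hn hv hw hvw hv0 hk h₃.qq i1 o1 h₃.q0 d1]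
      exact hb1
  refine ⟨?_, fun w hw hw0 hvw => hcomm v w hv hw hv0 hw0 hvw⟩
  set c := L hf K hπ φ v * L hf K hπ φ v with hc
  have sqs : ∀ p, f p p = 0 → p ≠ 0 → L hf K hπ φ p * L hf K hπ φ p = c :=
    fun p hp hp0 => sq_const hf K hker hn hp hp0 hv hv0
  have hc2 : c * c = 1 := (hker c (by rw [hc, map_mul, pi_L, ← map_mul, T_sq hf K hv, map_one])).2
  have hcc : ∀ x, c * x = x * c :=
    (hker c (by rw [hc, map_mul, pi_L, ← map_mul, T_sq hf K hv, map_one])).1
  have hP2 := (hker _ hP).2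
  have sq2 : ∀ {y R : C} (k : C), y * y = c → R * R = k → y * R = R * y →
      (y * R) * (y * R) = c * k := by
    intro y R k hy hR hyR
    rw [mul_assoc, ← mul_assoc R y, ← hyR, mul_assoc y R R, hR, ← mul_assoc, hy]
  have cc : ∀ {x y z : C}, x * y = y * x → x * z = z * x → x * (y * z) = (y * z) * x := fun {x y z} h1 h2 => by
    rw [← mul_assoc, h1, mul_assoc, h2, mul_assoc]
  have g45 := hcomm p4 p5 i4 i5 n4 n5 (horth _ _ _ _)
  have g345 := cc (hcomm p3 p4 i3 i4 n3 n4 (horth _ _ _ _)) (hcomm p3 p5 i3 i5 n3 n5 (horth _ _ _ _))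
  have g2345 := cc (hcomm p2 p3 i2 i3 n2 n3 (horth _ _ _ _))
    (cc (hcomm p2 p4 i2 i4 n2 n4 (horth _ _ _ _)) (hcomm p2 p5 i2 i5 n2 n5 (horth _ _ _ _)))
  have g12345 := cc (hcomm p1 p2 i1 i2 n1 n2 (horth _ _ _ _))
    (cc (hcomm p1 p3 i1 i3 n1 n3 (horth _ _ _ _))
      (cc (hcomm p1 p4 i1 i4 n1 n4 (horth _ _ _ _)) (hcomm p1 p5 i1 i5 n1 n5 (horth _ _ _ _))))
  have e := sq2 _ (sqs p1 i1 n1) (sq2 _ (sqs p2 i2 n2) (sq2 _ (sqs p3 i3 n3)
    (sq2 _ (sqs p4 i4 n4) (sqs p5 i5 n5) g45) g345) g2345) g12345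
  rw [hP2] at e
  rw [e, hc2, mul_one, ← mul_assoc, hc2, one_mul]

/-- Every involution of the special unitary group lifts to a product of the chosen lifts squaring to one. -/
theorem exists_lift (n : ℕ) : ∀ B : sug f, Nat.card {z : ι → F // mv B.1 z ≠ z} = n → B * B = 1 →
    ∃ y : C, π y = φ B ∧ y * y = 1 ∧ ∀ u, f u u = 0 → u ≠ 0 → (∀ z, f (mv B.1 z - z) u = 0) →
      y * L hf K hπ φ u = L hf K hπ φ u * y := by
  induction n using Nat.strong_induction_on with | _ n ih => ?_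
  intro B hn' hB
  have hBf : ∀ x y, f (mv B.1 x) (mv B.1 y) = f x y := fun x y => B.2.1 x y
  have hBB : ∀ x, mv B.1 (mv B.1 x) = x := fun x => by
    have := congrArg (fun k : sug f => mv k.1 x) hB
    simpa only [Subgroup.coe_mul, Subgroup.coe_one, mv_mul, mv_one] using this
  have hadj : ∀ x y, f (mv B.1 x) y = f x (mv B.1 y) := fun x y => by
    conv_lhs => rw [← hBB y, hBf]
  by_cases h1 : ∀ x, mv B.1 x = x
  · have : B = 1 := Subtype.ext (ext_mv fun x => by rw [h1 x, Subgroup.coe_one, mv_one])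
    exact ⟨1, by rw [this, map_one, map_one], one_mul 1, fun u _ _ _ => by rw [one_mul, mul_one]⟩
  push Not at h1
  -- a vector x with f (B x - x) x = 1
  set h : (ι → F) → (ι → F) → F := fun x y => f (mv B.1 x - x) y with hhdef
  have hherm : ∀ x y, h y x = σ (h x y) := fun x y => by
    simp only [hhdef, sub_left hf, map_sub, ← hf.herm, ← hadj]
  obtain ⟨x, hx⟩ : ∃ x, h x x ≠ 0 := by
    by_contra! hall
    obtain ⟨x, hx⟩ := h1
    obtain ⟨w, hw⟩ := (hf.nondegenerate _ (sub_ne_zero.2 hx)).2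
    set s := h x w with hs
    obtain ⟨ω, hω⟩ := K.omega
    have := hall ((ω / s) • x + w)
    have e : h ((ω / s) • x + w) ((ω / s) • x + w) = ω / s * σ (ω / s) * h x x + ω / s * h x w +
        σ (ω / s) * h w x + h w w := by
      simp only [hhdef, mv_add, mv_smul, sub_left hf, hf.add_left, hf.smul_left, add_right hf,
        smul_right hf]
      ring
    rw [e, hall x, hall w, hherm x w, ← hs, ← map_mul, div_mul_cancel₀ _ hw, K.sq, mul_zero] at this
    exact one_ne_zero (α := F) (by linear_combination hω - this + K.sq ω)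
  have hxx : h x x = 1 := by
    have h2 : h x x ^ 2 = h x x := by rw [← K.sq, ← hherm]
    exact mul_left_cancel₀ hx (by linear_combination h2)
  set v := mv B.1 x - x with hv
  have hvx : f v x = 1 := hxx
  have hxv : f x v = 1 := by rw [hf.herm, hvx, map_one]
  have hBv : mv B.1 v = v := by
    rw [hv, mv_sub, hBB]
    funext i
    simp only [Pi.sub_apply]
    linear_combination (x i - mv B.1 x i) * K.two
  have hrange : ∀ z, f (mv B.1 z - z) v = 0 := fun z => by
    rw [sub_left hf, hadj, hBv, sub_self]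
  have hvv : f v v = 0 := hrange x
  have hv0 : v ≠ 0 := sub_ne_zero.2 fun e => hx (by
    show f (mv B.1 x - x) x = 0
    rw [e, sub_self, zero_left hf])
  set t := T hf K v with ht
  have htB : B * t = t * B := by
    have := T_conj hf K B hvv
    rw [hBv, ← ht] at this
    rwa [mul_inv_eq_iff_eq_mul] at this
  set B' := t * B with hB'
  have hN : ∀ z, mv B'.1 z - z = (mv B.1 z - z) + f z v • v := fun z => by
    rw [hB', Subgroup.coe_mul, mv_mul, ht, mv_T hf K hvv, hadj, hBv]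
    abel
  have hlt : Nat.card {z : ι → F // mv B'.1 z ≠ z} < n := by
    rw [← hn']
    refine Set.ncard_lt_ncard (s := {z | mv B'.1 z ≠ z}) (t := {z | mv B.1 z ≠ z}) ?_ (Set.toFinite _)
    have hsub : {z | mv B'.1 z ≠ z} ⊆ {z | mv B.1 z ≠ z} := by
      intro z hz
      simp only [Set.mem_setOf_eq] at hz ⊢
      intro hBz
      refine hz (sub_eq_zero.1 ?_)
      have : f z v = 0 := by rw [hv, sub_right hf, ← hadj, hBz, sub_self]
      rw [hN, hBz, sub_self, this, zero_smul, add_zero]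
    refine (Set.ssubset_iff_of_subset hsub).2 ⟨x, ?_, ?_⟩
    · simp only [Set.mem_setOf_eq]
      exact fun e => hv0 (by rw [hv, e, sub_self])
    · simp only [Set.mem_setOf_eq, not_not]
      refine sub_eq_zero.1 ?_
      rw [hN, ← hv, hxv, one_smul]
      funext i
      simp only [Pi.add_apply, Pi.zero_apply]
      linear_combination v i * K.two
  have hB'2 : B' * B' = 1 := by
    rw [hB', mul_assoc, ← mul_assoc B t B, htB, mul_assoc t B B, hB, mul_one, ht, T_sq hf K hvv]
  obtain ⟨y, hy, hy2, hyc⟩ := ih _ hlt B' rfl hB'2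
  obtain ⟨hLv2, hLc⟩ := lifts_spec hf K hker hn h₃ hvv hv0
  have hyv := hyc v hvv hv0 fun z => by rw [hN, hf.add_left, hf.smul_left, hrange, hvv, mul_zero, add_zero]
  refine ⟨L hf K hπ φ v * y, ?_, ?_, fun u hu hu0 huo => ?_⟩
  · rw [map_mul, pi_L, hy, ← map_mul, hB', ← mul_assoc, ← ht, ht, T_sq hf K hvv, one_mul]
  · rw [mul_assoc, ← mul_assoc y, hyv, mul_assoc _ y y, hy2, mul_one, hLv2]
  · have h3 := hyc u hu hu0 fun z => by rw [hN, hf.add_left, hf.smul_left, huo z, huo x, mul_zero, add_zero]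
    have h4 := hLc u hu hu0 (huo x)
    rw [mul_assoc, h3, ← mul_assoc, h4, mul_assoc]

include hf K hπ in
/-- Every involution of the quotient lifts to an involution. -/
theorem lift_involution (hφ : Function.Surjective φ) (hφc : ∀ z, φ z = 1 → z ∈ Subgroup.center (sug f))
    {x : Q} (hx : orderOf x = 2) : ∃ y : C, orderOf y = 2 ∧ π y = x := by
  obtain ⟨A, hA⟩ := hφ x
  have hx2 : x ^ 2 = 1 := hx ▸ pow_orderOf_eq_one x
  have hA6 := center_cube hf K (hφc (A ^ 2) (by rw [map_pow, hA, hx2])) (by omega)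
  obtain ⟨y, hy, hy2, -⟩ := exists_lift hf K hker hn h₃ (hπ := hπ) (φ := φ) _ (A ^ 3) rfl (by
    rw [← pow_add]
    simpa [← pow_mul] using hA6)
  have hyx : π y = x := by rw [hy, map_pow, hA, pow_succ, hx2, one_mul]
  refine ⟨y, ?_, hyx⟩
  rw [orderOf_eq_prime_iff]
  exact ⟨by rw [pow_two, hy2], fun h => by rw [h, map_one] at hyx; simp [← hyx] at hx⟩

end cover

end Cfsg.Agent.UnitarySix
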